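import Mathlib

/-!
Corner of a proper idempotent of the 2 × 2 matrix ring over a division ring.
-/

set_option autoImplicit false

namespace Cfsg.Agent.GL2D

open Matrix

variable {D : Type*} [DivisionRing D]

theorem rank_one {f : Matrix (Fin 2) (Fin 2) D} (hf : f * f = f) (h1 : f ≠ 1) {i j : Fin 2}
    (hij : f i j ≠ 0) (k l : Fin 2) : f k l = f k j * ((f i j)⁻¹ * f i l) := by
  have hm : ∀ a b, f a 0 * f 0 b + f a 1 * f 1 b = f a b := fun a b => by
    have := congrFun (congrFun hf a) b
    simpa [Matrix.mul_apply, Fin.sum_univ_two] using this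
  by_cases hk : k = i
  · subst hk; rw [← mul_assoc, mul_inv_cancel₀ hij, one_mul]
  by_contra hne
  set lam := (f i j)⁻¹ * f i l with hlam
  have hμ : f k l - f k j * lam ≠ 0 := sub_ne_zero.2 hne
  have hi0 : f i l - f i j * lam = 0 := by
    rw [hlam, ← mul_assoc, mul_inv_cancel₀ hij, one_mul, sub_self]
  have hs : ∀ a b, f a i * f i b + f a k * f k b = f a b := fun a b => by
    rw [← hm a b]
    fin_cases i <;> fin_cases k <;> simp_all [add_comm]
  have hc : ∀ a, f a k * (f k l - f k j * lam) = f a l - f a j * lam := fun a => by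
    have e1 := hs a l
    have e2 := hs a j
    have : f a i * (f i l - f i j * lam) + f a k * (f k l - f k j * lam) =
        f a l - f a j * lam := by
      rw [← e1, ← e2]; noncomm_ring
    rwa [hi0, mul_zero, zero_add] at this
  have a1 : f i k = 0 := by
    have := hc i
    rw [hi0] at this
    exact (mul_eq_zero.1 this).resolve_right hμ
  have a2 : f k k = 1 := mul_right_cancel₀ hμ (by rw [hc k, one_mul])
  have a3 : f i i = 1 := by
    have := hs i j
    rw [a1, zero_mul, add_zero] at this
    exact mul_right_cancel₀ hij (by rw [this, one_mul])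
  have a4 : f k i = 0 := by
    have := hs k j
    rw [a2, one_mul, add_eq_right] at this
    exact (mul_eq_zero.1 this).resolve_right hij
  refine h1 (Matrix.ext fun a b => ?_)
  fin_cases i <;> fin_cases k <;> fin_cases a <;> fin_cases b <;> simp_all

/-- The corner map of a proper idempotent. -/
theorem exists_phi {f : Matrix (Fin 2) (Fin 2) D} (hf : f * f = f) (h0 : f ≠ 0) (h1 : f ≠ 1) :
    ∃ φ : Matrix (Fin 2) (Fin 2) D →+ D, φ 1 = 1 ∧
      (∀ a b, Commute b f → φ (a * b) = φ a * φ b) ∧
      ∀ a, Commute a f → φ a = 0 → a * f = 0 := by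
  obtain ⟨i, j, hij⟩ : ∃ i j, f i j ≠ 0 := by
    by_contra h
    push Not at h
    exact h0 (Matrix.ext h)
  have hr := rank_one hf h1 hij
  have hv : f *ᵥ (fun k => f k j) = fun k => f k j := by
    funext k
    have := congrFun (congrFun hf k) j
    simpa [Matrix.mul_apply, Matrix.mulVec, dotProduct] using this
  let φ : Matrix (Fin 2) (Fin 2) D →+ D :=
    { toFun := fun a => (f i j)⁻¹ * ((f * a) *ᵥ fun k => f k j) i
      map_zero' := by simp
      map_add' := fun a b => by simp [mul_add, Matrix.add_mulVec] }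
  have hφ : ∀ a, φ a = (f i j)⁻¹ * ((f * a) *ᵥ fun k => f k j) i := fun a => rfl
  have key : ∀ b, Commute b f → ∀ k, (b *ᵥ fun k => f k j) k = f k j * φ b := fun b hb k => by
    have e : (b *ᵥ fun k => f k j) = f *ᵥ (b *ᵥ fun k => f k j) := by
      conv_lhs => rw [← hv]
      rw [Matrix.mulVec_mulVec, Matrix.mulVec_mulVec, hb.eq]
    rw [e, hφ, ← Matrix.mulVec_mulVec]
    generalize (b *ᵥ fun k => f k j) = c
    simp only [Matrix.mulVec, dotProduct, Fin.sum_univ_two]
    rw [hr k 0, hr k 1]
    noncomm_ring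
  refine ⟨φ, ?_, fun a b hb => ?_, fun a ha h => ?_⟩
  · rw [hφ, mul_one, hv, inv_mul_cancel₀ hij]
  · have e : (b *ᵥ fun k => f k j) = fun k => f k j * φ b := funext (key b hb)
    rw [hφ, ← mul_assoc, ← Matrix.mulVec_mulVec, e, hφ a]
    simp only [Matrix.mulVec, dotProduct, Fin.sum_univ_two]
    noncomm_ring
  · refine Matrix.ext fun k l => ?_
    have := key a ha k
    rw [h, mul_zero] at this
    simp only [Matrix.mulVec, dotProduct, Fin.sum_univ_two] at this
    simp only [Matrix.mul_apply, Fin.sum_univ_two, Matrix.zero_apply]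
    rw [hr 0 l, hr 1 l, ← mul_assoc, ← mul_assoc (a k 1), ← add_mul, this, zero_mul]

/-- A square root of the identity of the corner is a sign. -/
theorem sign_of_sq {f a : Matrix (Fin 2) (Fin 2) D} (hf : f * f = f) (h0 : f ≠ 0) (h1 : f ≠ 1)
    (ha : Commute a f) (h : a * a * f = f) : a * f = f ∨ a * f = -f := by
  obtain ⟨φ, p1, p2, p3⟩ := exists_phi hf h0 h1
  have hf' : Commute f f := Commute.refl f
  have q : φ f = 1 := by
    by_cases z : φ f = 0
    · exact absurd (hf.symm.trans (p3 f hf' z)) h0
    · have := p2 f f hf'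
      rw [hf] at this
      exact (mul_left_cancel₀ z (by rw [← this, mul_one])).symm
  have e : φ a * φ a = 1 := by
    have := congrArg φ h
    rwa [p2 _ _ hf', p2 _ _ ha, q, mul_one] at this
  rcases mul_self_eq_one_iff.1 e with e | e
  · left
    have := p3 (a - 1) (ha.sub_left (Commute.one_left f)) (by rw [map_sub, e, p1, sub_self])
    rwa [sub_mul, one_mul, sub_eq_zero] at this
  · right
    have := p3 (a + 1) (ha.add_left (Commute.one_left f)) (by rw [map_add, e, p1, neg_add_cancel])
    rwa [add_mul, one_mul, add_eq_zero_iff_eq_neg] at this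

end Cfsg.Agent.GL2D
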