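import Cfsg.Agent.GL2D.Cliq
import Cfsg.Agent.GL2D.A7
import Cfsg.Agent.GT.PPrimeCore
import Cfsg.Agent.GT.Quasisimple
import Cfsg.Agent.Cl.LinearIso
import Cfsg.Agent.Cl.PSL2Solv
import Cfsg.Agent.S4294
import Cfsg.Agent.S3099
import Cfsg.Agent.S0225
import Cfsg.Agent.S0205
import Cfsg.Agent.S0493
import Cfsg.Agent.S0494

/-!
Assembly of S3259 from the statement that an irreducible quasisimple subgroup of `GL₂(D)` with
2-group centre has `-1` as its only involution.
-/

set_option autoImplicit false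

namespace Cfsg.Agent.GL2D

open Matrix
open scoped commutatorElement

universe u v

/-- The conclusion of S3259 for the simple group `S`. -/
def Concl (S : Type*) [Group S] : Prop :=
  ∃ (F : Type) (_ : Field F) (_ : Fintype F), (Fintype.card F = 5 ∨ Fintype.card F = 9) ∧
    Nonempty (S ≃* ProjectiveSpecialLinearGroup (Fin 2) F)

section grp
variable {S : Type*} [Group S] [IsSimpleGroup S]

theorem center_eq_bot (hna : ¬ IsMulCommutative S) : Subgroup.center S = ⊥ :=
  (Subgroup.Normal.eq_bot_or_eq_top inferInstance).resolve_right fun h =>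
    hna ⟨⟨fun a b => (Subgroup.mem_center_iff.1 (h ▸ Subgroup.mem_top b) a)⟩⟩

theorem even_card [Finite S] (hna : ¬ IsMulCommutative S) : Even (Nat.card S) := by
  by_contra h
  have := S0205.result (Nat.not_even_iff_odd.1 h)
  exact hna ⟨⟨IsSimpleGroup.comm_iff_isSolvable.2 this⟩⟩

theorem equiv_psl_of_surj (hna : ¬ IsMulCommutative S) {F : Type*} [Field F] (hF : 4 ≤ Nat.card F)
    (f : SpecialLinearGroup (Fin 2) F →* S) (hf : Function.Surjective f) :
    Nonempty (S ≃* ProjectiveSpecialLinearGroup (Fin 2) F) := by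
  have := Cl.L2.isSimpleGroup_PSL hF
  have h1 : Subgroup.center (SpecialLinearGroup (Fin 2) F) ≤ f.ker := by
    intro x hx
    have : f x ∈ Subgroup.center S := by
      rw [Subgroup.mem_center_iff]
      intro g
      obtain ⟨y, rfl⟩ := hf g
      rw [← map_mul, ← map_mul, Subgroup.mem_center_iff.1 hx y]
    rwa [center_eq_bot hna] at this
  let g : ProjectiveSpecialLinearGroup (Fin 2) F →* S := QuotientGroup.lift _ f h1
  have hg : Function.Surjective g := fun s => by
    obtain ⟨y, rfl⟩ := hf s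
    exact ⟨y, rfl⟩
  have hk : g.ker = ⊥ := (Subgroup.Normal.eq_bot_or_eq_top inferInstance).resolve_right fun h => by
    obtain ⟨s, hs⟩ := exists_ne (1 : S)
    obtain ⟨y, rfl⟩ := hg s
    exact hs (show y ∈ g.ker from h ▸ Subgroup.mem_top y)
  exact ⟨(MulEquiv.ofBijective g ⟨(MonoidHom.ker_eq_bot_iff g).1 hk, hg⟩).symm⟩

theorem concl_of_le [Finite S] (hna : ¬ IsMulCommutative S) (h : Nat.card S ≤ 60) : Concl S := by
  have h60 := S0493.result (G := S) (fun h => hna h.isMulCommutative) (by omega)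
  obtain ⟨e⟩ := S0494.result h60
  obtain ⟨e'⟩ := Cl.psl2_zmod_five_equiv_alt
  have : Fact (Nat.Prime 5) := ⟨by norm_num⟩
  exact ⟨ZMod 5, inferInstance, inferInstance, Or.inl (by simp), ⟨e.trans e'.symm⟩⟩

theorem le_or_sup {H : Type*} [Group H] (f : H →* S) (hf : Function.Surjective f)
    (K : Subgroup H) (hK : K.Normal) : K ≤ f.ker ∨ K ⊔ f.ker = ⊤ := by
  rcases (hK.map f hf).eq_bot_or_eq_top with h | h
  · exact Or.inl ((Subgroup.map_eq_bot_iff K).1 h)
  · right
    rw [← Subgroup.comap_map_eq, h, Subgroup.comap_top]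

omit [IsSimpleGroup S] in
theorem exists_min_supp {G : Type*} [Group G] [Finite G] (f : G →* S)
    (hf : Function.Surjective f) : ∃ H : Subgroup G, Function.Surjective (f.comp H.subtype) ∧
      ∀ K : Subgroup H, K ⊔ (f.comp H.subtype).ker = ⊤ → K = ⊤ := by
  obtain ⟨H, hH, hmin⟩ := (wellFounded_lt (α := Subgroup G)).has_min
    {H : Subgroup G | Function.Surjective (f.comp H.subtype)}
    ⟨⊤, fun s => by
      obtain ⟨g, rfl⟩ := hf s
      exact ⟨⟨g, trivial⟩, rfl⟩⟩
  refine ⟨H, hH, fun K hK => ?_⟩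
  have h1 : Function.Surjective (f.comp (K.map H.subtype).subtype) := by
    intro s
    obtain ⟨h, rfl⟩ := hH s
    have : h ∈ K ⊔ (f.comp H.subtype).ker := hK ▸ Subgroup.mem_top h
    obtain ⟨k, hk, m, hm, rfl⟩ := Subgroup.mem_sup_of_normal_right.1 this
    refine ⟨⟨k, k, hk, rfl⟩, ?_⟩
    rw [map_mul, (MonoidHom.mem_ker).1 hm, mul_one]
    rfl
  have h2 : K.map H.subtype = H :=
    (Subgroup.map_subtype_le K).eq_of_not_lt (hmin _ h1)
  rw [← Subgroup.map_subtype_inj, h2, ← MonoidHom.range_eq_map, Subgroup.range_subtype]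

end grp

variable {R : Type u} [Ring R] [Algebra ℚ R] [Nontrivial R]

omit [Nontrivial R] in
/-- A finite simple non-abelian group is not a subgroup of `GL₂(D)`. -/
theorem Rk2.not_simple (hR : Rk2 R) {G : Type v} [Group G] [Finite G] [IsSimpleGroup G]
    (hna : ¬ IsMulCommutative G) (ρ : G →* R) (hρ : Function.Injective ρ) : False := by
  have hZ : ∀ x : G, (ρ x = 1 ∨ ρ x = -1) → x = 1 := by
    intro x hx
    have : x ∈ Subgroup.center G := by
      rw [Subgroup.mem_center_iff]
      intro g
      apply hρ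
      rw [map_mul, map_mul]
      rcases hx with h | h <;> simp [h]
    rwa [center_eq_bot hna] at this
  obtain ⟨z, hz, N, hN, hodd, hc⟩ := S0225.result (even_card hna) (fun E hE => by
    have : Nontrivial E := Finite.one_lt_card_iff_nontrivial.1 (by rw [hE.card_four]; norm_num)
    obtain ⟨a, ha⟩ := exists_ne (1 : E)
    obtain ⟨b, hb⟩ : ∃ b : E, b ≠ 1 ∧ b ≠ a := by
      by_contra h
      push Not at h
      classical
      have := Fintype.ofFinite E
      have h1 : (Finset.univ : Finset E) ⊆ {1, a} := fun x _ => by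
        by_cases hx : x = 1
        · simp [hx]
        · simp [h x hx]
      have h2 := (Finset.card_le_card h1).trans Finset.card_le_two
      rw [Finset.card_univ, ← Nat.card_eq_fintype_card, hE.card_four] at h2
      omega
    have hsq : ∀ x : E, x * x = 1 := fun x => IsKleinFour.mul_self x
    have hsq' : ∀ x : E, ρ x * ρ x = 1 := fun x => by
      rw [← map_mul, ← Subgroup.coe_mul, hsq, Subgroup.coe_one, map_one]
    have hcm : Commute a b := by
      have h1 := hsq (a * b)
      unfold Commute SemiconjBy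
      calc a * b = (a * b)⁻¹ := eq_inv_of_mul_eq_one_left h1
        _ = b * a := by
          rw [_root_.mul_inv_rev, ← eq_inv_of_mul_eq_one_left (hsq a), ← eq_inv_of_mul_eq_one_left (hsq b)]
    have hne : ∀ x : E, x ≠ 1 → ¬ (ρ x = 1 ∨ ρ x = -1) := fun x hx h => hx (Subtype.ext (hZ _ h))
    rcases hR.inv_comm (hsq' a) (hsq' b) (hcm.map (ρ.comp E.subtype))
      (fun h => hne a ha (Or.inl h)) (fun h => hne a ha (Or.inr h))
      (fun h => hne b hb.1 (Or.inl h)) (fun h => hne b hb.1 (Or.inr h)) with h | h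
    · exact hb.2 (Subtype.ext (hρ h)).symm
    · refine hne (a * b) (fun h1 => hb.2 ?_) (Or.inr ?_)
      · rw [eq_inv_of_mul_eq_one_right h1, ← eq_inv_of_mul_eq_one_left (hsq a)]
      · rw [Subgroup.coe_mul, map_mul, h, neg_mul, hsq'])
  rcases hN.eq_bot_or_eq_top with h | h
  · have : z ∈ Subgroup.center G := by
      rw [Subgroup.mem_center_iff]
      intro g
      have := hc g
      rw [h, Subgroup.mem_bot] at this
      rw [mul_inv_eq_one, mul_inv_eq_iff_eq_mul] at this
      exact this.symm
    rw [center_eq_bot hna, Subgroup.mem_bot] at this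
    rw [this, orderOf_one] at hz
    omega
  · rw [h, Subgroup.card_top] at hodd
    exact (Nat.not_even_iff_odd.2 hodd) (even_card hna)

omit [Nontrivial R] in
theorem Rk2.concl_red (hR : Rk2 R) {H : Type v} [Group H] [Finite H] {ρ : H →* R}
    (hρ : Function.Injective ρ) (hi : ¬ Irr ρ) {S : Type*} [Group S] [IsSimpleGroup S]
    (hna : ¬ IsMulCommutative S) (f : H →* S) (hf : Function.Surjective f)
    (hM : ∀ K : Subgroup H, K ⊔ f.ker = ⊤ → K = ⊤) : Concl S := by
  have key : ∀ (E : Type u) [DivisionRing E] (π : H →* Eˣ), π.ker ≤ f.ker → Concl S := by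
    intro E _ π hπ
    have : Finite π.range := Finite.of_surjective _ π.rangeRestrict_surjective
    let g : π.range →* S := (QuotientGroup.lift π.ker f hπ).comp
      (QuotientGroup.quotientKerEquivRange π).symm.toMonoidHom
    have hg : Function.Surjective g := by
      intro s
      obtain ⟨y, rfl⟩ := hf s
      exact ⟨QuotientGroup.quotientKerEquivRange π y, by simp [g]⟩
    obtain ⟨e⟩ := S4294.result π.range (fun h =>
      hna ⟨⟨IsSimpleGroup.comm_iff_isSolvable.2 (Group.isSolvable_of_surjective hg)⟩⟩)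
    have : Fact (Nat.Prime 5) := ⟨by norm_num⟩
    exact ⟨ZMod 5, inferInstance, inferInstance, Or.inl (by simp),
      equiv_psl_of_surj hna (by simp) (g.comp e.symm.toMonoidHom) (hg.comp e.symm.surjective)⟩
  unfold Irr at hi
  push Not at hi
  obtain ⟨e, he, hc, he0, he1⟩ := hi
  obtain ⟨E₁, _, _, π₁, h₁⟩ := hR.exists_corner he he0 he1 ρ hc
  obtain ⟨E₂, _, _, π₂, h₂⟩ := hR.exists_corner he.one_sub (fun h => he1 (sub_eq_zero.1 h).symm)
    (by simpa using he0) ρ (fun g => (Commute.one_left _).sub_left (hc g))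
  rcases le_or_sup f hf π₁.ker inferInstance with a1 | a1
  · exact key E₁ π₁ a1
  rcases le_or_sup f hf π₂.ker inferInstance with a2 | a2
  · exact key E₂ π₂ a2
  exfalso
  obtain ⟨s, hs⟩ := exists_ne (1 : S)
  obtain ⟨y, rfl⟩ := hf s
  have b1 := (h₁ y).1 (show y ∈ π₁.ker from hM _ a1 ▸ Subgroup.mem_top y)
  have b2 := (h₂ y).1 (show y ∈ π₂.ker from hM _ a2 ▸ Subgroup.mem_top y)
  rw [sub_mul, b1, one_mul] at b2
  have : y = 1 := hρ (by rw [map_one]; exact sub_left_injective b2)
  exact hs (by rw [this, map_one])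

theorem Rk2.concl_rank_one (hR : Rk2 R) {H : Type v} [Group H] [Finite H] [Group.IsPerfect H]
    {ρ : H →* R} (hρ : Function.Injective ρ) (hi : Irr ρ) {S : Type*} [Group S] [IsSimpleGroup S]
    (hna : ¬ IsMulCommutative S) (f : H →* S) (hf : Function.Surjective f)
    (hq : Cfsg.IsQuasisimple H) (hZ : IsPGroup 2 (Subgroup.center H))
    (hinv : ∀ t : H, orderOf t = 2 → ρ t = -1) : Concl S := by
  have : Finite S := Finite.of_surjective f hf
  have hev : Even (Nat.card H) :=
    even_iff_two_dvd.2 ((even_card hna).two_dvd.trans (Subgroup.card_dvd_of_surjective f hf))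
  have hrk : Cfsg.PRankLE 2 1 H := by
    intro A _ hA
    classical
    have := Fintype.ofFinite A
    have h1 : ∀ a : A, ρ a ∈ ({1, -1} : Finset R) := fun a => by
      by_cases h : (a : H) = 1
      · simp [h]
      · simp [hinv a (orderOf_eq_prime (hA a a.2) h)]
    have h2 := Finset.card_le_card_of_injOn (s := (Finset.univ : Finset A)) (fun a => ρ a)
      (fun a _ => h1 a) (fun a _ b _ h => Subtype.ext (hρ h))
    rw [Finset.card_univ, ← Nat.card_eq_fintype_card] at h2
    exact h2.trans Finset.card_le_two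
  have hO : Cfsg.oddCore H = ⊥ := by
    have hodd := GT.odd_card_oddCore (G := H)
    rcases (GT.isQuasisimple_iff.1 hq).2.2 (Cfsg.oddCore H) inferInstance with h | h
    · rw [h, Subgroup.card_top] at hodd
      exact absurd hev (Nat.not_even_iff_odd.2 hodd)
    · obtain ⟨n, hn⟩ := (hZ.to_le h).exists_card_eq
      rw [hn] at hodd
      rcases n with _ | n
      · exact Subgroup.card_eq_one.1 hn
      · exact absurd (Nat.even_pow.2 ⟨even_two, by omega⟩) (Nat.not_even_iff_odd.2 hodd)
  let e₀ : H ⧸ Cfsg.oddCore H ≃* H :=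
    (QuotientGroup.quotientMulEquivOfEq hO).trans QuotientGroup.quotientBot
  rcases S3099.result inferInstance hrk hev with ⟨F, _, _, hodd, h3, ⟨e⟩⟩ | h
  · let e' : SpecialLinearGroup (Fin 2) F ≃* H := e.symm.trans e₀
    refine ⟨F, inferInstance, inferInstance, hR.card_SL (ρ.comp e'.toMonoidHom)
      (hρ.comp e'.injective) (fun x hx hc => hi x hx fun h => ?_) hodd h3,
      equiv_psl_of_surj hna (by rw [Nat.card_eq_fintype_card]; omega) (f.comp e'.toMonoidHom)
        (hf.comp e'.surjective)⟩
    obtain ⟨y, rfl⟩ := e'.surjective h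
    exact hc y
  · exfalso
    refine hR.not_cover_A7 (ρ := ρ.comp e₀.toMonoidHom) (fun x hx hc => hi x hx fun h => ?_)
      (hρ.comp e₀.injective) h
    obtain ⟨y, rfl⟩ := e₀.surjective h
    exact hc y

theorem Rk2.concl (hR : Rk2 R)
    (hInv : ∀ (H : Type v) [Group H] [Finite H] (ρ : H →* R), Function.Injective ρ →
      Cfsg.IsQuasisimple H → IsPGroup 2 (Subgroup.center H) → Irr ρ →
        ∀ t : H, orderOf t = 2 → ρ t = -1)
    {G : Type v} [Group G] [Finite G] (ρ : G →* R) (hρ : Function.Injective ρ) {S : Type*}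
    [Group S] [IsSimpleGroup S] (hna : ¬ IsMulCommutative S) (f : G →* S)
    (hf : Function.Surjective f) : Concl S := by
  obtain ⟨H, hf', hM⟩ := exists_min_supp f hf
  set f' := f.comp H.subtype
  let ρ' := ρ.comp H.subtype
  have hρ' : Function.Injective ρ' := hρ.comp Subtype.val_injective
  have : Finite S := Finite.of_surjective f hf
  by_cases hi : Irr ρ'
  swap
  · exact hR.concl_red hρ' hi hna f' hf' hM
  have hS := le_or_sup f' hf'
  have : Group.IsPerfect H := by
    refine ⟨hM _ ((hS (commutator H) inferInstance).resolve_left fun h => hna ⟨⟨fun a b => ?_⟩⟩)⟩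
    obtain ⟨x, rfl⟩ := hf' a
    obtain ⟨y, rfl⟩ := hf' b
    have : f' ⁅x, y⁆ = 1 := h (Subgroup.commutator_mem_commutator (Subgroup.mem_top x)
      (Subgroup.mem_top y))
    rw [map_commutatorElement, commutatorElement_eq_one_iff_commute] at this
    exact this.eq
  rcases hR.reduce hρ' hi f'.ker hM hS with h | h
  · refine concl_of_le hna ?_
    rwa [Subgroup.index_ker, MonoidHom.range_eq_top.2 hf', Subgroup.card_top] at h
  · have : Nontrivial H := hf'.nontrivial
    have hq : Cfsg.IsQuasisimple H := Cfsg.IsQuasisimple.of_normal_le_center fun K hK =>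
      (hS K hK).elim (fun h1 => Or.inr (h1.trans h)) fun h1 => Or.inl (hM _ h1)
    have hZ : IsPGroup 2 (Subgroup.center H) := by
      refine (hR.isPGroup_two ρ' hρ' f'.ker hM hS).to_le
        ((hS _ inferInstance).resolve_right fun h1 => ?_)
      have h2 := hM _ h1
      exact Group.IsPerfect.not_isMulCommutative H
        ⟨⟨fun a b => (Subgroup.mem_center_iff.1 (h2 ▸ Subgroup.mem_top b) a)⟩⟩
    exact hR.concl_rank_one hρ' hi hna f' hf' hq hZ (hInv H ρ' hρ' hq hZ hi)

end Cfsg.Agent.GL2D
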